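import Cfsg.Agent.H935.Fi23.Deg

/-!
# The degrees of `Fi₂₃` up to 8671 (helper991)
-/

set_option autoImplicit false
set_option maxRecDepth 100000

namespace Cfsg.Agent.H991.LD.Fi23Small

open Cfsg Cfsg.Agent.H935.Fi23 Cfsg.Agent.H511.Ore
open Cfsg.Agent.Characters.Core
open Cfsg.Spor (Fi23)

theorem no_1242 (a b c d : ℤ) : ¬ D4 1242 a b c d :=
  kill (n := 1242) (g := 2) (G := 621) (J := 1) (L := 1) (by norm_num) (fun a ha => by omega) (by norm_num)
    (by norm_num) (by norm_num) (by norm_num) (by decide +kernel) a b c d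

theorem no_1495 (a b c d : ℤ) : ¬ D4 1495 a b c d :=
  kill (n := 1495) (g := 65) (G := 23) (J := 1) (L := 1) (by norm_num) (fun a ha => by omega) (by norm_num)
    (by norm_num) (by norm_num) (by norm_num) (by decide +kernel) a b c d

theorem no_2277 (a b c d : ℤ) : ¬ D4 2277 a b c d :=
  kill (n := 2277) (g := 11) (G := 207) (J := 1) (L := 2) (by norm_num) (fun a ha => by omega) (by norm_num)
    (by norm_num) (by norm_num) (by norm_num) (by decide +kernel) a b c d

theorem no_2737 (a b c d : ℤ) : ¬ D4 2737 a b c d :=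
  kill (n := 2737) (g := 7) (G := 391) (J := 1) (L := 2) (by norm_num) (fun a ha => by omega) (by norm_num)
    (by norm_num) (by norm_num) (by norm_num) (by decide +kernel) a b c d

theorem no_4301 (a b c d : ℤ) : ¬ D4 4301 a b c d :=
  kill (n := 4301) (g := 11) (G := 391) (J := 2) (L := 3) (by norm_num) (fun a ha => by omega) (by norm_num)
    (by norm_num) (by norm_num) (by norm_num) (by decide +kernel) a b c d

theorem no_5796 (a b c d : ℤ) : ¬ D4 5796 a b c d :=
  kill (n := 5796) (g := 28) (G := 207) (J := 3) (L := 3) (by norm_num) (fun a ha => by omega) (by norm_num)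
    (by norm_num) (by norm_num) (by norm_num) (by decide +kernel) a b c d

theorem no_5865 (a b c d : ℤ) : ¬ D4 5865 a b c d :=
  kill (n := 5865) (g := 5) (G := 1173) (J := 3) (L := 3) (by norm_num) (fun a ha => by omega) (by norm_num)
    (by norm_num) (by norm_num) (by norm_num) (by decide +kernel) a b c d

theorem no_6325 (a b c d : ℤ) : ¬ D4 6325 a b c d :=
  kill (n := 6325) (g := 275) (G := 23) (J := 3) (L := 4) (by norm_num) (fun a ha => by omega) (by norm_num)
    (by norm_num) (by norm_num) (by norm_num) (by decide +kernel) a b c d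

theorem no_6578 (a b c d : ℤ) : ¬ D4 6578 a b c d :=
  kill (n := 6578) (g := 286) (G := 23) (J := 3) (L := 4) (by norm_num) (fun a ha => by omega) (by norm_num)
    (by norm_num) (by norm_num) (by norm_num) (by decide +kernel) a b c d

theorem no_7360 (a b c d : ℤ) : ¬ D4 7360 a b c d :=
  kill (n := 7360) (g := 320) (G := 23) (J := 3) (L := 4) (by norm_num) (fun a ha => by omega) (by norm_num)
    (by norm_num) (by norm_num) (by norm_num) (by decide +kernel) a b c d

theorem no_7820 (a b c d : ℤ) : ¬ D4 7820 a b c d :=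
  kill (n := 7820) (g := 20) (G := 391) (J := 3) (L := 4) (by norm_num) (fun a ha => by omega) (by norm_num)
    (by norm_num) (by norm_num) (by norm_num) (by decide +kernel) a b c d

/-- the excluded degrees -/
def exl2 : List ℕ := exl ++ [1242, 1495, 2277, 2737, 4301, 5796, 5865, 6325, 6578, 7360, 7820]

theorem noDeg2 : NoDeg Fi23 exl2 := by
  intro χ h
  rcases List.mem_append.1 h with h | h
  · exact noDeg' χ h
  by_cases hχ : (χ : Fi23 → ℂ) = 1
  · have h1 : charDegree (χ : Fi23 → ℂ) = 1 := by
      have h2 := Blocks.Knorr.charDegree_eq χ.2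
      rw [hχ, Pi.one_apply] at h2
      have h3 : ((charDegree (χ : Fi23 → ℂ) : ℕ) : ℂ) = ((1 : ℕ) : ℂ) := by
        rw [Nat.cast_one]
        conv_rhs => rw [h2]
        rw [hχ]
      exact_mod_cast h3
    rw [h1] at h
    exact absurd h (by decide)
  obtain ⟨a, b, c, d, hd⟩ := exists_d4 χ hχ
  simp only [List.mem_cons, List.not_mem_nil, or_false] at h
  rcases h with h | h | h | h | h | h | h | h | h | h | h <;>
    rw [h] at hd
  · exact no_1242 _ _ _ _ hd
  · exact no_1495 _ _ _ _ hd
  · exact no_2277 _ _ _ _ hd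
  · exact no_2737 _ _ _ _ hd
  · exact no_4301 _ _ _ _ hd
  · exact no_5796 _ _ _ _ hd
  · exact no_5865 _ _ _ _ hd
  · exact no_6325 _ _ _ _ hd
  · exact no_6578 _ _ _ _ hd
  · exact no_7360 _ _ _ _ hd
  · exact no_7820 _ _ _ _ hd

/-- the candidates -/
def PS (n : ℕ) : Bool := Nat.ble n 8671 && (rs n && !([782, 3588, 5083].elem n))

theorem chkS : Cfsg.Agent.H653.Sieve.allDiv (8672 * 8672) (tstOn PS 0 exl2 [Cfsg.Agent.H856.F23.cd23])
    Cfsg.Agent.H856.F23.LF 1 = true := by decide +kernel

open Cfsg.Agent.H856.F23 in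
theorem degOn_s : DegOn Fi23 PS 8672 := by
  have := Cfsg.Agent.KFacts.FiTTh.BasInv.finite
  have := simp23
  exact degOn_of_check not_comm23 4089470473293004800 Cfsg.Agent.LThreeFi23.card_G LF (by decide +kernel)
    (by decide +kernel) [cd23] (by decide +kernel) (fun d hd => by rw [List.mem_singleton.1 hd]; exact cd23_has)
    minDeg_zero noDeg2 chkS

/-- **The nontrivial degrees of `Fi₂₃` up to 8671.** -/
theorem degs (χ : IrrCharacter Fi23) (hχ : (χ : Fi23 → ℂ) ≠ 1) (h : charDegree (χ : Fi23 → ℂ) ≤ 8671) :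
    charDegree (χ : Fi23 → ℂ) = 782 ∨ charDegree (χ : Fi23 → ℂ) = 3588 ∨ charDegree (χ : Fi23 → ℂ) = 5083 := by
  by_contra hne
  have h1 : [782, 3588, 5083].elem (charDegree (χ : Fi23 → ℂ)) = false := by
    rw [Bool.eq_false_iff]
    intro h2
    have h3 := List.elem_iff.1 h2
    simp only [List.mem_cons, List.not_mem_nil, or_false] at h3
    exact hne h3
  refine absurd (degOn_s χ hχ ?_) (by omega)
  unfold PS
  rw [rs_of χ, Nat.ble_eq_true_of_le h, h1]
  rfl

end Cfsg.Agent.H991.LD.Fi23Small
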