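import Cfsg.Agent.H991.LD.Fi23Small
import Cfsg.Agent.H30.GraphFi24A
import Cfsg.Agent.H593.LD.Fi24Data
import Cfsg.Agent.S0146
import Cfsg.Agent.S0190

/-!
# `Fi₂₃` has an irreducible character of degree 5083 if `Fi₂₄'` has one of degree 8671 (helper991)

The restriction of a character of degree 8671 to `Fi₂₃` has no trivial constituent, since the permutation character on
the 306936 transpositions is `1 + 57477 + 249458`; the degrees of `Fi₂₃` up to 8671 are 1, 782, 3588, 5083, and 8671 is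
odd.
-/

set_option autoImplicit false
set_option maxRecDepth 100000

namespace Cfsg.Agent.H991.LD.Fi23Five

open Cfsg Cfsg.Agent.Characters.Core Cfsg.Agent.R08 Cfsg.Agent.R08.FiTwentyFour
open Cfsg.Spor (Fi24 Fi23)

/-- `Fi₂₃` in `Fi₂₄'` -/
noncomputable def ph : Fi23 →* Spor.Fi24' :=
  facts.phi.codRestrict (commutator Fi24) fun k =>
    Cfsg.Agent.H593.LD.Fi24Data.T_le_commutator ⟨k, rfl⟩

theorem ph_coe (k : Fi23) : ((ph k : Spor.Fi24') : Fi24) = facts.phi k := rfl

theorem ph_inj : Function.Injective ph := fun k l h =>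
  facts.phi_injective (by rw [← ph_coe, ← ph_coe, h])

/-- the transposition as a point -/
noncomputable def x0 : (L : Set Fi24) := ⟨Cfsg.Agent.H593.LD.Fi24Data.a, Cfsg.Agent.H593.LD.Fi24Data.a_mem_L⟩

theorem stab : @MulAction.stabilizer Spor.Fi24' (L : Set Fi24) _ Cfsg.Agent.H30.GraphFi24.act x0 = ph.range := by
  let _ := Cfsg.Agent.H30.GraphFi24.act
  ext g
  rw [MulAction.mem_stabilizer_iff]
  have h1 : g • x0 = x0 ↔ (g : Fi24) * Cfsg.Agent.H593.LD.Fi24Data.a = Cfsg.Agent.H593.LD.Fi24Data.a * (g : Fi24) := by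
    constructor
    · intro h
      have h2 : (g : Fi24) * Cfsg.Agent.H593.LD.Fi24Data.a * (g : Fi24)⁻¹ = Cfsg.Agent.H593.LD.Fi24Data.a :=
        congrArg Subtype.val h
      calc (g : Fi24) * Cfsg.Agent.H593.LD.Fi24Data.a =
          (g : Fi24) * Cfsg.Agent.H593.LD.Fi24Data.a * (g : Fi24)⁻¹ * g := by group
        _ = _ := by rw [h2]
    · intro h
      apply Subtype.ext
      show (g : Fi24) * Cfsg.Agent.H593.LD.Fi24Data.a * (g : Fi24)⁻¹ = Cfsg.Agent.H593.LD.Fi24Data.a
      rw [h, mul_inv_cancel_right]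
  rw [h1]
  constructor
  · intro h
    obtain ⟨k, hk⟩ := (facts.mem_range_iff (g : Fi24)).2 ⟨h, (mem_commutator_iff).1 g.2⟩
    exact ⟨k, Subtype.ext hk⟩
  · rintro ⟨k, rfl⟩
    exact ((facts.mem_range_iff _).1 ⟨k, rfl⟩).1

theorem exists_5083 (h : ∃ χ : IrrCharacter Spor.Fi24', charDegree (χ : Spor.Fi24' → ℂ) = 8671) :
    ∃ θ : IrrCharacter Fi23, charDegree (θ : Fi23 → ℂ) = 5083 := by
  classical
  obtain ⟨χ, hχ⟩ := h
  let _ := Cfsg.Agent.H30.GraphFi24.act
  have hfin : Finite Spor.Fi24' := Cfsg.Agent.H30.GraphFi24.finite_Fi24'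
  have hr := Cfsg.Agent.H30.GraphFi24.r3
  have hfin4 : Finite Fi24 := finite_Fi24
  have hX : Finite (L : Set Fi24) := Subtype.finite
  have := Fintype.ofFinite (L : Set Fi24)
  have := Fintype.ofFinite Spor.Fi24'
  have hfin3 : Finite Fi23 := Cfsg.Agent.KFacts.FiTTh.BasInv.finite
  have := Fintype.ofFinite Fi23
  obtain ⟨χ₁, χ₂, f, g, D, h1, h2, h3, h4, h5, h6⟩ := hr.frame
  have hd := Cfsg.Agent.H30.GraphFi24.degrees h4 h5 h6
  have hχ1 : (χ : Spor.Fi24' → ℂ) 1 = 8671 := by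
    have := Blocks.Knorr.charDegree_eq χ.2
    rw [hχ] at this
    rw [this]
    norm_num
  have htr := hr.trans
  -- the inner product with the permutation character
  have e1 : classInner (fun g : Spor.Fi24' => (Nat.card (MulAction.fixedBy (L : Set Fi24) g) : ℂ))
      (χ : Spor.Fi24' → ℂ) = 0 := by
    have e2 : (fun g : Spor.Fi24' => (Nat.card (MulAction.fixedBy (L : Set Fi24) g) : ℂ)) =
        (1 : Spor.Fi24' → ℂ) + ((χ₁ : Spor.Fi24' → ℂ) + (χ₂ : Spor.Fi24' → ℂ)) := by
      funext x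
      rw [h3 x, Pi.add_apply, Pi.add_apply, Pi.one_apply]
      ring
    have n1 : (1 : Spor.Fi24' → ℂ) ≠ (χ : Spor.Fi24' → ℂ) := fun h => by
      have := congrFun h 1
      rw [hχ1, Pi.one_apply] at this
      norm_num at this
    have n2 : (χ₁ : Spor.Fi24' → ℂ) ≠ (χ : Spor.Fi24' → ℂ) := fun h => by
      have h7 := congrFun h 1
      rw [hχ1, h1] at h7
      have h8 : f = 8671 := by exact_mod_cast h7
      omega
    have n3 : (χ₂ : Spor.Fi24' → ℂ) ≠ (χ : Spor.Fi24' → ℂ) := fun h => by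
      have h7 := congrFun h 1
      rw [hχ1, h2] at h7
      have h8 : g = 8671 := by exact_mod_cast h7
      omega
    rw [e2, classInner_add_left, classInner_add_left, classInner_irr_ne isIrr_one χ.2 n1,
      classInner_irr_ne χ₁.2 χ.2 n2, classInner_irr_ne χ₂.2 χ.2 n3]
    norm_num
  rw [Cfsg.Agent.S0190.result (L : Set Fi24) x0, Cfsg.Agent.S0146.result _ _ _ (isIrr_isClassFunction χ.2)] at e1
  -- the restriction
  have hmem : ∀ h : Spor.Fi24', h ∈ MulAction.stabilizer Spor.Fi24' x0 → ∃ k : Fi23, ph k = h := fun h hh => by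
    rw [stab] at hh
    exact hh
  have hmem' : ∀ k : Fi23, ph k ∈ MulAction.stabilizer Spor.Fi24' x0 := fun k => by
    rw [stab]
    exact ⟨k, rfl⟩
  let q : Fi23 → MulAction.stabilizer Spor.Fi24' x0 := fun k => ⟨ph k, hmem' k⟩
  have hq : Function.Bijective q := by
    constructor
    · intro k l hkl
      exact ph_inj (congrArg Subtype.val hkl)
    · rintro ⟨h, hh⟩
      obtain ⟨k, hk⟩ := hmem h hh
      exact ⟨k, Subtype.ext hk⟩
  have e3 : classInner (1 : Fi23 → ℂ) (fun k => (χ : Spor.Fi24' → ℂ) (ph k)) = 0 := by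
    rw [classInner_def, mul_eq_zero] at e1 ⊢
    right
    have e4 := e1.resolve_left (by
      have : (Nat.card (MulAction.stabilizer Spor.Fi24' x0) : ℂ) ≠ 0 := by
        exact_mod_cast Nat.card_pos.ne'
      simpa using this)
    rw [← e4]
    exact Fintype.sum_bijective q hq _ _ fun k => rfl
  -- the constituents
  have := finite_irr (G := Fi23)
  let _ := Fintype.ofFinite (IrrCharacter Fi23)
  have hch : IsCharacter Fi23 (fun k => (χ : Spor.Fi24' → ℂ) (ph k)) := isCharacter_comp ph (isIrr_isCharacter χ.2)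
  obtain ⟨m, hm⟩ := exists_nat_comb hch
  have hsum : 8671 = ∑ θ : IrrCharacter Fi23, m θ * charDegree (θ : Fi23 → ℂ) := by
    have e5 := congrFun hm 1
    simp only [map_one, hχ1, Finset.sum_apply, nsmul_eq_mul] at e5
    have e6 : ((8671 : ℕ) : ℂ) = ((∑ θ : IrrCharacter Fi23, m θ * charDegree (θ : Fi23 → ℂ) : ℕ) : ℂ) := by
      push_cast
      rw [e5]
      refine Finset.sum_congr rfl fun θ _ => ?_
      rw [Pi.mul_apply, Pi.natCast_apply, Blocks.Knorr.charDegree_eq θ.2]
    exact_mod_cast e6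
  have hle : ∀ θ : IrrCharacter Fi23, m θ ≠ 0 → charDegree (θ : Fi23 → ℂ) ≤ 8671 := by
    intro θ hθ
    rw [hsum]
    refine le_trans ?_ (Finset.single_le_sum (f := fun θ : IrrCharacter Fi23 => m θ * charDegree (θ : Fi23 → ℂ))
      (fun _ _ => Nat.zero_le _) (Finset.mem_univ θ))
    exact Nat.le_mul_of_pos_left _ (Nat.pos_of_ne_zero hθ)
  have hone : m ⟨1, isIrr_one⟩ = 0 := by
    have e7 : classInner (fun k => (χ : Spor.Fi24' → ℂ) (ph k)) ((⟨1, isIrr_one⟩ : IrrCharacter Fi23) : Fi23 → ℂ) =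
        (m ⟨1, isIrr_one⟩ : ℂ) := by
      rw [hm]
      exact classInner_sum_nsmul_irr m _
    have e8 : classInner (fun k => (χ : Spor.Fi24' → ℂ) (ph k)) ((⟨1, isIrr_one⟩ : IrrCharacter Fi23) : Fi23 → ℂ) =
        0 := by
      rw [← classInner_conj_symm]
      show (starRingEnd ℂ) (classInner (1 : Fi23 → ℂ) (fun k => (χ : Spor.Fi24' → ℂ) (ph k))) = 0
      rw [e3, map_zero]
    rw [e8] at e7
    exact_mod_cast e7.symm
  by_contra hcon
  push Not at hcon
  have heven : ∀ θ : IrrCharacter Fi23, 2 ∣ m θ * charDegree (θ : Fi23 → ℂ) := by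
    intro θ
    by_cases hθ : m θ = 0
    · rw [hθ, zero_mul]
      exact dvd_zero _
    · have hne : (θ : Fi23 → ℂ) ≠ 1 := by
        intro h
        apply hθ
        have : θ = ⟨1, isIrr_one⟩ := Subtype.ext h
        rw [this, hone]
      have h7 := Cfsg.Agent.H991.LD.Fi23Small.degs θ hne (hle θ hθ)
      rcases h7 with h7 | h7 | h7
      · rw [h7]
        exact Dvd.dvd.mul_left (by norm_num) _
      · rw [h7]
        exact Dvd.dvd.mul_left (by norm_num) _
      · exact absurd h7 (hcon θ)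
  have h8 : 2 ∣ 8671 := by
    rw [hsum]
    exact Finset.dvd_sum fun θ _ => heven θ
  omega

end Cfsg.Agent.H991.LD.Fi23Five
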