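import Cfsg.Agent.H991.LD.Fi23Five
import Cfsg.Agent.H954.LD.Row
import Cfsg.Agent.H55.OutGen
import Cfsg.Agent.S2080

/-!
# S4910, the row `Fi₂₃` from the degrees 8671 of `Fi₂₄'` and 504627200 of `Fi₂₃` (helper991)
-/

set_option autoImplicit false

namespace Cfsg.Agent.H991.LD

open Cfsg Cfsg.Agent.H954.LD Cfsg.Agent.Characters.Core

universe u

/-- transport of a degree along an isomorphism -/
theorem exists_deg {S : Type u} [Group S] {T : Type} [Group T] (e : S ≃* T) {d : ℕ}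
    (h : ∃ χ : IrrCharacter T, charDegree (χ : T → ℂ) = d) : ∃ χ : IrrCharacter S, charDegree (χ : S → ℂ) = d := by
  obtain ⟨χ, hχ⟩ := h
  refine ⟨⟨(χ : T → ℂ) ∘ e.toMonoidHom, isIrr_comp e.toMonoidHom e.surjective χ.2⟩, ?_⟩
  rw [← hχ]
  show ⌊((χ : T → ℂ) (e.toMonoidHom 1)).re⌋₊ = _
  rw [map_one]
  rfl

/-- **The row `Fi₂₃`, conditional.** -/
theorem row_Fi23_of {S : Type u} [Group S] [Finite S] [IsSimpleGroup S] (hna : ¬ IsMulCommutative S)
    (h : Spor.IsoFi23 S) (h1 : ∃ χ : IrrCharacter Spor.Fi24', charDegree (χ : Spor.Fi24' → ℂ) = 8671)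
    (h2 : ∃ χ : IrrCharacter Spor.Fi23, charDegree (χ : Spor.Fi23 → ℂ) = 504627200) : CopRow S := by
  obtain ⟨e⟩ := h
  have h3 : Nat.card (Out S) = 1 := by rw [H55.OutGen.card_out_congr e]; exact S2080.result
  obtain ⟨α, hα⟩ := exists_deg e (Fi23Five.exists_5083 h1)
  obtain ⟨β, hβ⟩ := exists_deg e h2
  exact copRow_one hna h3 (α := α) (β := β) (by rw [hα]; norm_num) (by rw [hβ]; norm_num)
    (by rw [hα, hβ]; norm_num)

end Cfsg.Agent.H991.LD
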